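import Groth.Prelude.Def_StCoh
import Groth.Prelude.Def_GmPts2
import Groth.Agent.Lib.FppfMu.Pow
import Groth.Agent.Lib.Fibred.Restricted

/-!
# The Kummer sequence on the fppf site of a category fibred in groupoids
-/

set_option autoImplicit false
set_option backward.isDefEq.respectTransparency false
set_option backward.isDefEq.respectTransparency.types false
universe u

open CategoryTheory CategoryTheory.Limits AlgebraicGeometry Opposite

namespace Groth.Agent.Lib.StKummer33

noncomputable section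

theorem quot_equiv {A B : Type*} [AddCommGroup A] [AddCommGroup B] (δ : A →+ B) {N : AddSubgroup A} {R : AddSubgroup B}
    (h1 : δ.ker = N) (h2 : δ.range = R) : Nonempty (R ≃+ A ⧸ N) := by
  subst h1
  subst h2
  exact ⟨(QuotientAddGroup.quotientKerEquivRange δ).symm⟩

variable {S : Scheme.{u}} {𝒳 : AlgSt.Cat S} [StCoh.BaseCont Scheme.fppfPrecoverage 𝒳] {n : ℕ}

theorem epi_base (hn : 0 < n) : Epi (n • 𝟙 (CGrpSh2.Gm Scheme.fppfPrecoverage S)) := by
  let e : CGrpSh2.Gm Scheme.fppfPrecoverage S ≅ EtDl.GmF S := GmPts.gmFIso S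
  haveI := Groth.Agent.Lib.FppfMu.Pow.epi_pow (X := S) n hn
  have h : n • 𝟙 (CGrpSh2.Gm Scheme.fppfPrecoverage S) = e.hom ≫ (n • 𝟙 (EtDl.GmF S)) ≫ e.inv := by
    rw [Preadditive.nsmul_comp, Preadditive.comp_nsmul, Category.id_comp, e.hom_inv_id]
  rw [h]
  infer_instance

/-- Units have roots locally on the site of a fibred category. -/
theorem epi_powMap (h : FibCat.IsFibGrpd 𝒳.p) (hn : 0 < n) :
    Epi (StCoh.powMap Scheme.fppfPrecoverage 𝒳 n) := by
  haveI := epi_base (S := S) hn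
  have hb : Sheaf.IsLocallySurjective (n • 𝟙 (CGrpSh2.Gm Scheme.fppfPrecoverage S)) :=
    (Sheaf.isLocallySurjective_iff_epi' _ _).2 inferInstance
  have hs : Sheaf.IsLocallySurjective (StCoh.powMap Scheme.fppfPrecoverage 𝒳 n) := by
    refine ⟨fun {x} s => ?_⟩
    have hR := hb.imageSieve_mem (U := 𝒳.p.obj x) s
    refine GrothendieckTopology.superset_covering _ ?_ ((Fibred.Restricted.mem_restricted_iff h _
      (Sieve.functorPullback 𝒳.p _)).2 (by rw [Fibred.Restricted.pushforward_pull h]; exact hR))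
    rintro z ψ ⟨w, hw⟩
    refine ⟨w, Eq.trans ?_ hw⟩
    exact (FppfMu.Pow.nsmul_app _ n _ w).trans (FppfMu.Pow.nsmul_app _ n _ w).symm
  exact (Sheaf.isLocallySurjective_iff_epi' _ _).1 hs

theorem shortExact (h : FibCat.IsFibGrpd 𝒳.p) (hn : 0 < n) :
    (ShortComplex.mk (StCoh.muι Scheme.fppfPrecoverage 𝒳 n) (StCoh.powMap Scheme.fppfPrecoverage 𝒳 n)
      (kernel.condition _)).ShortExact := by
  haveI := epi_powMap h hn
  haveI : Mono (StCoh.muι Scheme.fppfPrecoverage 𝒳 n) := inferInstanceAs (Mono (kernel.ι _))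
  exact { exact := ShortComplex.exact_of_f_is_kernel _ (kernelIsKernel (StCoh.powMap Scheme.fppfPrecoverage 𝒳 n)) }

theorem map_powMap (i : ℕ) (ξ : Sheaf.H (StCoh.Gm Scheme.fppfPrecoverage 𝒳) i) :
    Sheaf.H.map (StCoh.powMap Scheme.fppfPrecoverage 𝒳 n) i ξ = n • ξ := by
  rw [Sheaf.H.map_apply]
  unfold StCoh.powMap
  induction n with
  | zero => simp
  | succ n ih => rw [succ_nsmul, Abelian.Ext.mk₀_add, Abelian.Ext.comp_add, ih, Abelian.Ext.comp_mk₀_id, succ_nsmul]

/-- The Kummer sequence in cohomology. -/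
theorem range_and_ker (h : FibCat.IsFibGrpd 𝒳.p) (hn : 0 < n) (i j : ℕ) (hij : i + 1 = j) :
    (Sheaf.H.map (StCoh.muι Scheme.fppfPrecoverage 𝒳 n) j).range =
        (DistribSMul.toAddMonoidHom (StCoh.H Scheme.fppfPrecoverage (StCoh.Gm Scheme.fppfPrecoverage 𝒳) j) n).ker ∧
      Nonempty ((Sheaf.H.map (StCoh.muι Scheme.fppfPrecoverage 𝒳 n) j).ker ≃+
        StCoh.H Scheme.fppfPrecoverage (StCoh.Gm Scheme.fppfPrecoverage 𝒳) i ⧸
          (DistribSMul.toAddMonoidHom
            (StCoh.H Scheme.fppfPrecoverage (StCoh.Gm Scheme.fppfPrecoverage 𝒳) i) n).range) := by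
  have hS := shortExact (n := n) h hn
  refine ⟨?_, ?_⟩
  · ext ξ
    simp only [AddMonoidHom.mem_range, AddMonoidHom.mem_ker, DistribSMul.toAddMonoidHom_apply]
    constructor
    · rintro ⟨η, rfl⟩
      rw [← map_powMap, ← AddMonoidHom.comp_apply]
      show Sheaf.H.map _ j (Sheaf.H.map _ j η) = 0
      rw [Sheaf.H.map_apply, Sheaf.H.map_apply, Abelian.Ext.comp_assoc_of_second_deg_zero, Abelian.Ext.mk₀_comp_mk₀,
        kernel.condition, Abelian.Ext.mk₀_zero, Abelian.Ext.comp_zero]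
    · intro hξ
      exact Abelian.Ext.covariant_sequence_exact₂ _ hS ξ ((map_powMap j ξ).trans hξ)
  · let δ : StCoh.H Scheme.fppfPrecoverage (StCoh.Gm Scheme.fppfPrecoverage 𝒳) i →+
        StCoh.H Scheme.fppfPrecoverage (StCoh.mu Scheme.fppfPrecoverage 𝒳 n) j :=
      hS.extClass.postcomp _ hij
    have hker : δ.ker = (DistribSMul.toAddMonoidHom
        (StCoh.H Scheme.fppfPrecoverage (StCoh.Gm Scheme.fppfPrecoverage 𝒳) i) n).range := by
      ext ξ
      simp only [AddMonoidHom.mem_range, AddMonoidHom.mem_ker, DistribSMul.toAddMonoidHom_apply]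
      constructor
      · intro hξ
        obtain ⟨η, hη⟩ := Abelian.Ext.covariant_sequence_exact₃ _ hS ξ hij hξ
        exact ⟨η, (map_powMap i η).symm.trans hη⟩
      · rintro ⟨η, rfl⟩
        rw [← map_powMap]
        show (Sheaf.H.map _ i η).comp hS.extClass hij = 0
        rw [Sheaf.H.map_apply, Abelian.Ext.comp_assoc_of_second_deg_zero, hS.comp_extClass, Abelian.Ext.comp_zero]
    have hrange : δ.range = (Sheaf.H.map (StCoh.muι Scheme.fppfPrecoverage 𝒳 n) j).ker := by
      ext ξ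
      simp only [AddMonoidHom.mem_range, AddMonoidHom.mem_ker]
      constructor
      · rintro ⟨η, rfl⟩
        show Sheaf.H.map _ j (η.comp hS.extClass hij) = 0
        rw [Sheaf.H.map_apply, Abelian.Ext.comp_assoc_of_third_deg_zero, hS.extClass_comp, Abelian.Ext.comp_zero]
      · intro hξ
        exact Abelian.Ext.covariant_sequence_exact₁ _ hS ξ hξ hij
    exact quot_equiv δ hker hrange

end

end Groth.Agent.Lib.StKummer33
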